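import Groth.Agent.Lib.LocFreeHom.Basic
import Groth.Agent.Lib.OX.ExtZeroOpen
import Groth.Agent.Lib.OX.Exact
import Groth.Agent.Lib.OX.Tensor
import Groth.Agent.Lib.OX.StalkTensor
import Groth.Agent.Lib.OX.TensorInjective
import Mathlib.Algebra.Homology.DerivedCategory.Ext.ExactSequences

/-!
# A morphism that lifts locally lifts globally when `H¹` of the sheaf of homomorphisms vanishes
-/

set_option autoImplicit false
set_option linter.style.haveILetI false
set_option backward.isDefEq.respectTransparency false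
universe u

noncomputable section

open CategoryTheory CategoryTheory.Limits AlgebraicGeometry MonoidalCategory

namespace GrothLib.Torsor26

open OX LocFreeHom

attribute [local instance] LocFreeHom.hasSheafHom

variable {X : Scheme.{u}}

/-- `E ⊗ O ≅ E`. -/
def unitR (E : X.Modules) : (T E).obj (Coh.structureModule X) ≅ E :=
  ((tensorBraiding (X := X)).app E).symm.app (Coh.structureModule X) ≪≫ (tensorUnitNatIso (X := X)).app E

theorem isZero_stalk_tensor_extZero {U : Scheme.{u}} (j : U ⟶ X) [IsOpenImmersion j] (E : X.Modules)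
    (N : U.Modules) (x : X) (hx : x ∉ Set.range j) :
    IsZero ((stalk x).obj ((T E).obj ((CxOX.extZero j).obj N))) :=
  IsZero.of_iso ((MonoidalCategory.tensorLeft ((stalk x).obj E)).map_isZero (isZero_stalk_extZero j N x hx))
    (stalkTensorBiIso x E _)

/-- The counit is an isomorphism on modules supported on the open. -/
theorem isIso_counit_of_isZero_stalk {U : Scheme.{u}} (j : U ⟶ X) [IsOpenImmersion j] (M : X.Modules)
    (hM : ∀ x : X, x ∉ Set.range j → IsZero ((stalk x).obj M)) :
    IsIso ((CxOX.extZeroAdj j).counit.app M) := by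
  refine (OX.isIso_iff _).2 fun x => ?_
  by_cases hx : x ∈ Set.range j
  · obtain ⟨y, rfl⟩ := hx
    exact isIso_stalk_epsZ j M y
  · exact ⟨0, (isZero_stalk_extZero j _ x hx).eq_of_src _ _, (hM x hx).eq_of_src _ _⟩

/-- A morphism lifting on an open lifts after tensoring with the extension by zero of the structure sheaf. -/
theorem exists_lift_on {U : Scheme.{u}} (j : U ⟶ X) [IsOpenImmersion j] {E M C : X.Modules} (g : M ⟶ C)
    (f₀ : E ⟶ C) (lam : (Scheme.Modules.restrictFunctor j).obj E ⟶ (Scheme.Modules.restrictFunctor j).obj M)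
    (hlam : lam ≫ (Scheme.Modules.restrictFunctor j).map g = (Scheme.Modules.restrictFunctor j).map f₀) :
    ∃ l : (T E).obj ((CxOX.extZero j).obj ((Scheme.Modules.restrictFunctor j).obj (Coh.structureModule X))) ⟶ M,
      l ≫ g = (T E).map ((CxOX.extZeroAdj j).counit.app _) ≫ (unitR E).hom ≫ f₀ := by
  let adj := CxOX.extZeroAdj j
  set T' := (T E).obj ((CxOX.extZero j).obj ((Scheme.Modules.restrictFunctor j).obj (Coh.structureModule X)))
  let τ : T' ⟶ E := (T E).map (adj.counit.app _) ≫ (unitR E).hom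
  haveI : IsIso (adj.counit.app T') :=
    isIso_counit_of_isZero_stalk j T' (fun x hx => isZero_stalk_tensor_extZero j E _ x hx)
  refine ⟨inv (adj.counit.app T') ≫ (CxOX.extZero j).map ((Scheme.Modules.restrictFunctor j).map τ ≫ lam) ≫
    adj.counit.app M, ?_⟩
  simp only [Category.assoc, IsIso.inv_comp_eq]
  rw [show adj.counit.app M ≫ g =
    (CxOX.extZero j).map ((Scheme.Modules.restrictFunctor j).map g) ≫ adj.counit.app C from
      (adj.counit.naturality g).symm, ← Functor.map_comp_assoc, Category.assoc, hlam, ← Functor.map_comp]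
  exact (adj.counit.naturality (τ ≫ f₀)).trans (congrArg (_ ≫ ·) (Category.assoc _ _ _))

variable [HasExt.{u} X.Modules]

/-- The torsor argument. -/
theorem exists_lift_of_local {S : ShortComplex X.Modules} (hS : S.ShortExact) (E : X.Modules)
    (h : Subsingleton (Abelian.Ext.{u} (Coh.structureModule X) ((DCoh.sheafHom E).obj S.X₁) 1))
    (f₀ : E ⟶ S.X₃)
    (hloc : ∀ x : X, ∃ W : X.Opens, x ∈ W ∧
      ∃ lam : (Scheme.Modules.restrictFunctor W.ι).obj E ⟶ (Scheme.Modules.restrictFunctor W.ι).obj S.X₂,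
        lam ≫ (Scheme.Modules.restrictFunctor W.ι).map S.g = (Scheme.Modules.restrictFunctor W.ι).map f₀) :
    ∃ s : E ⟶ S.X₂, s ≫ S.g = f₀ := by
  let R := DCoh.sheafHom E
  let adj := DCoh.sheafHomAdj E
  haveI := hS.mono_f
  haveI : PreservesLimitsOfSize.{0, 0} R := adj.rightAdjoint_preservesLimits
  haveI : R.Additive := Functor.additive_of_preserves_binary_products _
  haveI : Mono (R.map S.f) := R.map_mono S.f
  have hRex : (S.map R).Exact :=
    ShortComplex.exact_of_f_is_kernel _ (isLimitForkMapOfIsLimit' R S.zero hS.fIsKernel)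
  let φ : Coh.structureModule X ⟶ R.obj S.X₃ := adj.homEquiv _ _ ((unitR E).hom ≫ f₀)
  have hφ : φ ≫ cokernel.π (R.map S.g) = 0 := by
    refine (OX.eq_zero_iff _).2 fun x => ?_
    obtain ⟨W, hxW, lam, hlam⟩ := hloc x
    obtain ⟨l, hl⟩ := exists_lift_on W.ι S.g f₀ lam hlam
    have h0 : (CxOX.extZeroAdj W.ι).counit.app (Coh.structureModule X) ≫ φ ≫ cokernel.π (R.map S.g) = 0 := by
      refine (Category.assoc _ _ _).symm.trans ?_
      refine (congrArg (· ≫ cokernel.π (R.map S.g)) ((adj.homEquiv_naturality_left _ _).symm.trans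
        ((congrArg (adj.homEquiv _ _) hl.symm).trans (adj.homEquiv_naturality_right l S.g)))).trans ?_
      exact (Category.assoc _ _ _).trans ((congrArg (_ ≫ ·) (cokernel.condition _)).trans comp_zero)
    obtain ⟨w, rfl⟩ : x ∈ Set.range W.ι := by simpa using hxW
    haveI : IsIso ((stalk (W.ι w)).map ((CxOX.extZeroAdj W.ι).counit.app (Coh.structureModule X))) :=
      isIso_stalk_epsZ W.ι _ w
    have h1 := congrArg (stalk (W.ι w)).map h0
    rw [Functor.map_comp, Functor.map_zero] at h1
    exact (cancel_epi ((stalk (W.ι w)).map ((CxOX.extZeroAdj W.ι).counit.app (Coh.structureModule X)))).1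
      (h1.trans comp_zero.symm)
  let Im := Abelian.image (R.map S.g)
  let q : R.obj S.X₂ ⟶ Im := Abelian.factorThruImage (R.map S.g)
  have hz : R.map S.f ≫ q = 0 := by
    refine (cancel_mono (Abelian.image.ι (R.map S.g))).1 ?_
    rw [Category.assoc, Abelian.image.fac, zero_comp, ← R.map_comp, S.zero, R.map_zero]
  have hT : (ShortComplex.mk (R.map S.f) q hz).ShortExact := by
    let ψ : ShortComplex.mk (R.map S.f) q hz ⟶ S.map R :=
      { τ₁ := 𝟙 _, τ₂ := 𝟙 _, τ₃ := Abelian.image.ι (R.map S.g)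
        comm₁₂ := by simp
        comm₂₃ := by rw [Category.id_comp]; exact (Abelian.image.fac _).symm }
    haveI : Epi ψ.τ₁ := inferInstanceAs (Epi (𝟙 _))
    haveI : IsIso ψ.τ₂ := inferInstanceAs (IsIso (𝟙 _))
    haveI : Mono ψ.τ₃ := inferInstanceAs (Mono (Abelian.image.ι (R.map S.g)))
    exact { exact := (ShortComplex.exact_iff_of_epi_of_isIso_of_mono ψ).2 hRex }
  let φ' : Coh.structureModule X ⟶ Im := kernel.lift _ φ hφ
  obtain ⟨x₂, hx₂⟩ := Abelian.Ext.covariant_sequence_exact₃ _ hT (Abelian.Ext.mk₀ φ') (show 0 + 1 = 1 from rfl)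
    (@Subsingleton.elim _ h _ _)
  obtain ⟨s, rfl⟩ := (Abelian.Ext.mk₀_bijective _ _).2 x₂
  rw [Abelian.Ext.mk₀_comp_mk₀] at hx₂
  have hs : s ≫ R.map S.g = φ := by
    rw [← Abelian.image.fac (R.map S.g), ← Category.assoc, (Abelian.Ext.mk₀_bijective _ _).1 hx₂]
    exact kernel.lift_ι _ _ _
  refine ⟨(unitR E).inv ≫ (adj.homEquiv _ _).symm s, ?_⟩
  rw [Category.assoc, ← adj.homEquiv_naturality_right_symm, hs, Equiv.symm_apply_apply, Iso.inv_hom_id_assoc]

end GrothLib.Torsor26
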