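import Groth.Agent.Lib.LocFreeHom.Basic
import Groth.Agent.Lib.ModSupp25.SS
import Groth.Agent.Lib.OX.PullbackTensor
import Groth.Agent.Lib.OX.LocFreeTensor
import Groth.Agent.Lib.K0Sub.PushExact
import Groth.Agent.Lib.Cohom.InjModule
import Groth.Agent.Lib.Cohom.Basic
import Groth.Agent.Lib.SheafCoh.Top
import Mathlib.CategoryTheory.Adjunction.Unique

/-!
# Homomorphisms into a direct image, and their first cohomology
-/

set_option autoImplicit false
set_option linter.style.haveILetI false
set_option backward.isDefEq.respectTransparency false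
universe u

noncomputable section

open CategoryTheory CategoryTheory.Limits AlgebraicGeometry

namespace GrothLib.Torsor26

open OX LocFreeHom

attribute [local instance] LocFreeHom.hasSheafHom

variable {Y Z : Scheme.{u}} (i : Z ⟶ Y) (M : Y.Modules)

/-- `Hom_Y(M, i_* -) ≅ i_* Hom_Z(i^* M, -)`. -/
def homPushIso :
    Scheme.Modules.pushforward i ⋙ DCoh.sheafHom M ≅
      DCoh.sheafHom ((Scheme.Modules.pullback i).obj M) ⋙ Scheme.Modules.pushforward i :=
  (((DCoh.sheafHomAdj M).comp (Scheme.Modules.pullbackPushforwardAdjunction i)).ofNatIsoLeft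
      (NatIso.ofComponents (fun N => pullTensorIso i M N) (fun b => pullTensorIso_natural₂ i M b) :
        T M ⋙ Scheme.Modules.pullback i ≅ Scheme.Modules.pullback i ⋙ T ((Scheme.Modules.pullback i).obj M))).rightAdjointUniq
    ((Scheme.Modules.pullbackPushforwardAdjunction i).comp (DCoh.sheafHomAdj ((Scheme.Modules.pullback i).obj M)))

open GrothLib.Cohom in
/-- Direct images of injective modules are acyclic. -/
theorem subsingleton_HH_push_injective {X Y : Scheme.{u}} (g : Y ⟶ X) (I : Y.Modules) [Injective I] (q : ℕ) :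
    Subsingleton (Coh.HH X ((Scheme.Modules.pushforward g).obj I) (q + 1)) := by
  have : TopCat.Sheaf.IsFlasque (Coh.toAb I) := isFlasque_toAb_of_injective I
  have : TopCat.Sheaf.IsFlasque ((pushFun g.base).obj (Coh.toAb I)) :=
    TopCat.Presheaf.IsFlasque.pushforward_isFlasque (Coh.toAb I).obj g.base
  have := SheafCoh.flasque_HU_subsingleton ((pushFun g.base).obj (Coh.toAb I)) q ⊤
  exact @Equiv.subsingleton _ _ (HEquivTop (Coh.toAb ((Scheme.Modules.pushforward g).obj I)) (q + 1)).toEquiv this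

theorem subsingleton_ext_unit_iff_HH (X : Scheme.{u}) [HasExt.{u} X.Modules] (F : X.Modules) (n : ℕ) :
    Subsingleton (Abelian.Ext.{u} (Coh.structureModule X) F n) ↔ Subsingleton (Coh.HH X F n) := by
  haveI : HasExt.{u} (ModSite.Mod X.sheaf) := ‹HasExt.{u} X.Modules›
  obtain ⟨c⟩ := ModSupp25.nonempty_extUnit_iso (O := X.sheaf) F n
  exact c.addCommGroupIsoToAddEquiv.toEquiv.subsingleton_congr

variable [IsClosedImmersion i] [HasExt.{u} Y.Modules] [HasExt.{u} Z.Modules]

/-- `H¹(Z, H) = 0` gives `Ext¹(O_Y, i_* H) = 0`. -/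
theorem subsingleton_ext_push (H : Z.Modules) (h : Subsingleton (Coh.HH Z H 1)) :
    Subsingleton (Abelian.Ext.{u} (Coh.structureModule Y) ((Scheme.Modules.pushforward i).obj H) 1) := by
  haveI : EnoughInjectives Z.Modules := inferInstance
  obtain ⟨_, _, _⟩ := K0Sub.pushforward_exact i
  let S := ShortComplex.mk (Injective.ι H) (cokernel.π (Injective.ι H)) (cokernel.condition _)
  have hS : S.ShortExact := { exact := ShortComplex.exact_of_g_is_cokernel _ (cokernelIsCokernel _) }
  have hP := hS.map_of_exact (Scheme.Modules.pushforward i)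
  haveI : Injective S.X₂ := inferInstanceAs (Injective (Injective.under H))
  have hinj : Subsingleton (Abelian.Ext.{u} (Coh.structureModule Y) (S.map (Scheme.Modules.pushforward i)).X₂ 1) :=
    (subsingleton_ext_unit_iff_HH Y _ 1).2 (subsingleton_HH_push_injective i S.X₂ 0)
  have h' := (subsingleton_ext_unit_iff_HH Z H 1).2 h
  refine ⟨fun a b => ?_⟩
  suffices key : ∀ a : Abelian.Ext.{u} (Coh.structureModule Y) ((Scheme.Modules.pushforward i).obj H) 1, a = 0 from (key a).trans (key b).symm
  intro a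
  obtain ⟨x₃, rfl⟩ := Abelian.Ext.covariant_sequence_exact₁ _ hP a (@Subsingleton.elim _ hinj _ _) (show 0 + 1 = 1 from rfl)
  obtain ⟨φ, rfl⟩ := (Abelian.Ext.mk₀_bijective _ _).2 x₃
  let adj := Scheme.Modules.pullbackPushforwardAdjunction i
  let e := pullUnitIso i
  let ψ : Coh.structureModule Z ⟶ S.X₃ := e.inv ≫ (adj.homEquiv _ _).symm φ
  obtain ⟨x₂, hx₂⟩ := Abelian.Ext.covariant_sequence_exact₃ _ hS (Abelian.Ext.mk₀ ψ) (show 0 + 1 = 1 from rfl)
    (@Subsingleton.elim _ h' _ _)
  obtain ⟨l, rfl⟩ := (Abelian.Ext.mk₀_bijective _ _).2 x₂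
  rw [Abelian.Ext.mk₀_comp_mk₀] at hx₂
  have hl : l ≫ S.g = ψ := (Abelian.Ext.mk₀_bijective _ _).1 hx₂
  have hφ : adj.homEquiv _ _ (e.hom ≫ l) ≫ (Scheme.Modules.pushforward i).map S.g = φ := by
    rw [← adj.homEquiv_naturality_right, Category.assoc, hl, Iso.hom_inv_id_assoc, Equiv.apply_symm_apply]
  rw [← hφ, ← Abelian.Ext.mk₀_comp_mk₀, Abelian.Ext.comp_assoc_of_second_deg_zero]
  exact (congrArg (fun m => Abelian.Ext.comp _ m _) hP.comp_extClass).trans (Abelian.Ext.comp_zero _ _ _ _ _)

/-- `H¹(Z, Hom(i^* M, N)) = 0` gives `Ext¹(O_Y, Hom(M, i_* N)) = 0`. -/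
theorem subsingleton_ext_homPush (N : Z.Modules)
    (h : Subsingleton (Coh.HH Z ((DCoh.sheafHom ((Scheme.Modules.pullback i).obj M)).obj N) 1)) :
    Subsingleton (Abelian.Ext.{u} (Coh.structureModule Y)
      ((DCoh.sheafHom M).obj ((Scheme.Modules.pushforward i).obj N)) 1) := by
  have h1 := subsingleton_ext_push i _ h
  let e : (DCoh.sheafHom M).obj ((Scheme.Modules.pushforward i).obj N) ≅ _ := (homPushIso i M).app N
  refine ⟨fun a b => ?_⟩
  have hinj : Function.Injective fun x : Abelian.Ext.{u} (Coh.structureModule Y)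
      ((DCoh.sheafHom M).obj ((Scheme.Modules.pushforward i).obj N)) 1 =>
      x.comp (Abelian.Ext.mk₀ e.hom) (add_zero 1) := by
    intro x x' e'
    have := congrArg (fun z => z.comp (Abelian.Ext.mk₀ e.inv) (add_zero 1)) e'
    simpa using this
  exact hinj (@Subsingleton.elim _ h1 _ _)

end GrothLib.Torsor26
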